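import Groth.Agent.Lead.ChernChar.Grading
import Groth.Agent.Lead.LamNewton

/-! The Chern character: additivity and leading terms. -/

set_option autoImplicit false

open Finset
open scoped TensorProduct

namespace Groth.Agent.Lead.ChernChar

open LambdaRing Groth.Agent.LamG
open Groth.Agent.Lead.Lam (nw nw_congr nw_conv rec_split map_nw conv single)

universe u

noncomputable section

/-- the sequence of variables `1, e₁, …, e_d, 0, …` -/
def E (d t : ℕ) : MvPolynomial (Fin d) ℚ :=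
  if t = 0 then 1 else if h : t - 1 < d then MvPolynomial.X ⟨t - 1, h⟩ else 0

theorem E_zero (d : ℕ) : E d 0 = 1 := if_pos rfl

theorem E_succ {d i : ℕ} (h : i < d) : E d (i + 1) = MvPolynomial.X ⟨i, h⟩ := by
  rw [E, if_neg (Nat.succ_ne_zero i), dif_pos (show i + 1 - 1 < d by omega)]
  rfl

theorem chPoly_eq (d : ℕ) :
    KGr.chPoly d = MvPolynomial.C (d : ℚ) + ∑ k ∈ range d, MvPolynomial.C (1 / ((k + 1).factorial : ℚ)) * nw (E d) k := by
  apply (MvPolynomial.esymmAlgEquiv (Fin d) ℚ (Fintype.card_fin d)).injective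
  rw [KGr.chPoly, AlgEquiv.apply_symm_apply]
  apply Subtype.ext
  rw [MvPolynomial.esymmAlgEquiv_apply, MvPolynomial.esymmAlgHom_apply, map_add, map_sum]
  change (∑ i : Fin d, Polynomial.aeval (MvPolynomial.X i : MvPolynomial (Fin d) ℚ) (KGr.expTrunc d)) = _
  set φ := (MvPolynomial.aeval (R := ℚ) fun i : Fin d => MvPolynomial.esymm (Fin d) ℚ ((i : ℕ) + 1)) with hφ
  have key : ∀ k, k < d → φ (nw (E d) k) = ∑ i : Fin d, (MvPolynomial.X i : MvPolynomial (Fin d) ℚ) ^ (k + 1) := by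
    intro k hk
    have h1 := map_nw φ.toRingHom (E_zero d) k
    change φ (nw (E d) k) = _ at h1
    rw [h1, nw_congr (d := Groth.Agent.Lead.Lam.es ((univ : Finset (Fin d)).val.map MvPolynomial.X))
      (by simp [E_zero]) (Groth.Agent.Lead.Lam.es_zero _) k (fun t ht1 ht2 => ?_),
      Groth.Agent.Lead.Lam.nw_es, Multiset.map_map]
    · rfl
    · obtain ⟨i, rfl⟩ : ∃ i, t = i + 1 := ⟨t - 1, by omega⟩
      change φ (E d (i + 1)) = _
      rw [E_succ (show i < d by omega), hφ, MvPolynomial.aeval_X, MvPolynomial.esymm_eq_multiset_esymm]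
      rfl
  rw [MvPolynomial.aeval_C]
  have hs : ∀ k ∈ range d, φ (MvPolynomial.C (1 / ((k + 1).factorial : ℚ)) * nw (E d) k) =
      algebraMap ℚ (MvPolynomial (Fin d) ℚ) (1 / ((k + 1).factorial : ℚ)) * ∑ i : Fin d, MvPolynomial.X i ^ (k + 1) := fun k hk => by
    rw [map_mul, key k (Finset.mem_range.1 hk), hφ, MvPolynomial.aeval_C]
  rw [Finset.sum_congr rfl hs]
  simp only [KGr.expTrunc, map_sum, map_mul, map_pow, Polynomial.aeval_C, Polynomial.aeval_X]
  rw [Finset.sum_comm, Finset.sum_range_succ', add_comm]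
  congr 1
  · simp
  · exact Finset.sum_congr rfl fun k _ => (Finset.mul_sum _ _ _).symm

/-- evaluation of the Chern character polynomial -/
theorem aeval_chPoly {A : Type*} [CommRing A] [Algebra ℚ A] (d : ℕ) (a : ℚ) (c : ℕ → A) (hc : c 0 = 1) :
    algebraMap ℚ A (a - d) + MvPolynomial.aeval (fun i : Fin d => c (i + 1)) (KGr.chPoly d) =
      algebraMap ℚ A a + ∑ k ∈ range d, (1 / ((k + 1).factorial : ℚ)) • nw c k := by
  rw [chPoly_eq, map_add, map_sum, MvPolynomial.aeval_C, map_sub, ← add_assoc, sub_add_cancel]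
  congr 1
  refine Finset.sum_congr rfl fun k hk => ?_
  rw [map_mul, MvPolynomial.aeval_C, ← Algebra.smul_def]
  congr 1
  set ψ := (MvPolynomial.aeval (R := ℚ) fun i : Fin d => c ((i : ℕ) + 1)) with hψ
  have h1 := map_nw ψ.toRingHom (E_zero d) k
  change ψ (nw (E d) k) = _ at h1
  rw [h1]
  refine nw_congr (by simp [E_zero]) hc k fun t ht1 ht2 => ?_
  obtain ⟨i, rfl⟩ : ∃ i, t = i + 1 := ⟨t - 1, by omega⟩
  change ψ (E d (i + 1)) = _
  rw [E_succ (show i < d by rw [Finset.mem_range] at hk; omega), hψ, MvPolynomial.aeval_X]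

theorem sign_cancel {A : Type*} [CommRing A] (k : ℕ) (a : A) : a = (-1) ^ k * ((-1) ^ k * a) := by
  rw [← mul_assoc, ← mul_pow, neg_one_mul, neg_neg, one_pow, one_mul]

theorem intCast_smul_eq_mul {A : Type*} [CommRing A] [Algebra ℚ A] (c : ℤ) (a : A) : (c : ℚ) • a = (c : A) * a := by
  rw [Algebra.smul_def, map_intCast]

theorem lead_scalar {A : Type*} [CommRing A] [Algebra ℚ A] (m : ℕ) (g : A) :
    (-1) ^ m * ((((-1 : ℤ) ^ m * (m.factorial : ℤ) : ℤ) : A) * g * ((m : A) + 1)) = ((m + 1).factorial : ℚ) • g := by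
  rw [Algebra.smul_def, map_natCast, Nat.factorial_succ]
  push_cast
  have h1 : ((-1 : A) ^ m) * (-1) ^ m = 1 := by rw [← mul_pow, neg_one_mul, neg_neg, one_pow]
  linear_combination ((m.factorial : A) * g * ((m : A) + 1)) * h1

theorem intCast_sign {A : Type*} [CommRing A] (i : ℕ) : (((-1 : ℤ) ^ i : ℤ) : A) = (-1) ^ i := by push_cast; rfl

theorem newton_solve {A : Type*} [CommRing A] (k : ℕ) (v c s : A) (h : (-1) ^ k * v = c * ((k : A) + 1) - s) :
    (((-1 : ℤ) ^ k : ℤ) : A) * ((((k + 1 : ℕ) : ℤ) : A) * c - s) = v := by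
  rw [intCast_sign, Int.cast_natCast, Nat.cast_add_one, mul_comm ((k : A) + 1) c, ← h]
  exact (sign_cancel k v).symm

theorem lead_solve {A : Type*} [CommRing A] [Algebra ℚ A] (m : ℕ) (v c g : A) (h : (-1) ^ m * v = c * ((m : A) + 1))
    (hc : c = (((-1 : ℤ) ^ m * (m.factorial : ℤ) : ℤ) : A) * g) : v = ((m + 1).factorial : ℚ) • g := by
  rw [← lead_scalar m g, ← hc, ← h]
  exact sign_cancel m v

variable {K : Type u} [CommRing K] [LambdaOps K] {P : PosStructure K}

theorem grK_sub {n : ℕ} {a b : K} (ha : a ∈ (qG P).G n) (hb : b ∈ (qG P).G n) :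
    KGr.grK P (n : ℤ) (a - b) = KGr.grK P (n : ℤ) a - KGr.grK P (n : ℤ) b := by
  have h := grK_add (sub_mem ha hb) hb
  rw [sub_add_cancel] at h
  exact eq_sub_of_add_eq h.symm

theorem grK_intCast_mul' {n : ℕ} {x : K} (c : ℤ) (hx : x ∈ (qG P).G n) :
    KGr.grK P (n : ℤ) ((c : K) * x) = (c : KGr.Gr P) * KGr.grK P (n : ℤ) x :=
  (grK_intCast_mul c hx).trans (intCast_smul_eq_mul (A := KGr.Gr P) c (KGr.grK P (n : ℤ) x))

/-- the part of an element of augmentation zero -/
def red (P : PosStructure K) (x : K) : K := x - (P.aug x : K)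

theorem aug_red (x : K) : P.aug (red P x) = 0 := by simp [red]

theorem gamma_red_mem (x : K) (i : ℕ) : gamma i (red P x) ∈ (qG P).G i :=
  mem_qG_of_mem (gamma_mem_gammaFil _ (aug_red x) i)

/-- the sequence of Chern classes -/
def cseq (P : PosStructure K) (x : K) (i : ℕ) : KGr.Gr P := KGr.chern P i x

theorem cseq_eq (x : K) (i : ℕ) : cseq P x i = KGr.grK P (i : ℤ) (gamma i (red P x)) := rfl

theorem cseq_zero (x : K) : cseq P x 0 = 1 := by
  rw [cseq_eq, gamma_zero]
  exact grK_zero_one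

theorem cseq_add (x y : K) : cseq P (x + y) = conv (cseq P x) (cseq P y) := by
  funext i
  have hr : red P (x + y) = red P x + red P y := by
    simp [red]; ring
  have hm : ∀ j ∈ range (i + 1), gamma j (red P x) * gamma (i - j) (red P y) ∈ (qG P).G i := fun j hj => by
    have := (qG P).mul_mem (gamma_red_mem (P := P) x j) (gamma_red_mem (P := P) y (i - j))
    rwa [Nat.add_sub_cancel' (Nat.lt_succ_iff.1 (Finset.mem_range.1 hj))] at this
  rw [cseq_eq, hr, gamma_add, grK_sum _ _ hm, conv]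
  refine Finset.sum_congr rfl fun j hj => ?_
  rw [cseq_eq, cseq_eq, grK_mul (gamma_red_mem x j) (gamma_red_mem y (i - j)),
    Nat.add_sub_cancel' (Nat.lt_succ_iff.1 (Finset.mem_range.1 hj))]

theorem chK_eq (d : ℕ) (x : K) :
    KGr.chK P d x = algebraMap ℚ (KGr.Gr P) (P.aug x : ℚ) +
      ∑ k ∈ range d, (1 / ((k + 1).factorial : ℚ)) • nw (cseq P x) k := by
  exact aeval_chPoly (A := KGr.Gr P) d (P.aug x : ℚ) (cseq P x) (cseq_zero x)

theorem chK_add (d : ℕ) (x y : K) : KGr.chK P d (x + y) = KGr.chK P d x + KGr.chK P d y := by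
  rw [chK_eq, chK_eq, chK_eq, add_add_add_comm, ← Finset.sum_add_distrib, cseq_add, map_add (P.aug), Int.cast_add,
    map_add]
  congr 1
  refine Finset.sum_congr rfl fun k _ => ?_
  rw [nw_conv (cseq_zero x) (cseq_zero y), smul_add]

/-- each Newton class is homogeneous -/
theorem exists_nw_eq (x : K) (k : ℕ) :
    ∃ y ∈ (qG P).G (k + 1), nw (cseq P x) k = KGr.grK P ((k + 1 : ℕ) : ℤ) y := by
  induction k using Nat.strong_induction_on with
  | _ k ih =>
    choose! y hy hy' using ih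
    have hm : ∀ i ∈ range k, (((-1 : ℤ) ^ i : ℤ) : K) * (y i * gamma (k - i) (red P x)) ∈ (qG P).G (k + 1) := by
      intro i hi
      have hi' := Finset.mem_range.1 hi
      refine Ideal.mul_mem_left _ _ ?_
      have := (qG P).mul_mem (hy i hi') (gamma_red_mem (P := P) x (k - i))
      rwa [show i + 1 + (k - i) = k + 1 by omega] at this
    have hmain : (((k + 1 : ℕ) : ℤ) : K) * gamma (k + 1) (red P x) ∈ (qG P).G (k + 1) :=
      Ideal.mul_mem_left _ _ (gamma_red_mem x (k + 1))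
    refine ⟨(((-1 : ℤ) ^ k : ℤ) : K) * ((((k + 1 : ℕ) : ℤ) : K) * gamma (k + 1) (red P x) -
      ∑ i ∈ range k, (((-1 : ℤ) ^ i : ℤ) : K) * (y i * gamma (k - i) (red P x))),
      Ideal.mul_mem_left _ _ (sub_mem hmain (Submodule.sum_mem _ hm)), ?_⟩
    have hrec := rec_split (c := cseq P x) (cseq_zero x) k
    have h2 : KGr.grK P ((k + 1 : ℕ) : ℤ) ((((k + 1 : ℕ) : ℤ) : K) * gamma (k + 1) (red P x) -
        ∑ i ∈ range k, (((-1 : ℤ) ^ i : ℤ) : K) * (y i * gamma (k - i) (red P x))) =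
        KGr.grK P ((k + 1 : ℕ) : ℤ) ((((k + 1 : ℕ) : ℤ) : K) * gamma (k + 1) (red P x)) -
        KGr.grK P ((k + 1 : ℕ) : ℤ) (∑ i ∈ range k, (((-1 : ℤ) ^ i : ℤ) : K) * (y i * gamma (k - i) (red P x))) :=
      grK_sub hmain (Submodule.sum_mem _ hm)
    have hterm : ∀ i ∈ range k,
        KGr.grK P ((k + 1 : ℕ) : ℤ) ((((-1 : ℤ) ^ i : ℤ) : K) * (y i * gamma (k - i) (red P x))) =
          (-1 : KGr.Gr P) ^ i * nw (cseq P x) i * cseq P x (k - i) := by
      intro i hi
      have hi' := Finset.mem_range.1 hi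
      have hg := gamma_red_mem (P := P) x (k - i)
      have hyg := (qG P).mul_mem (hy i hi') hg
      rw [show i + 1 + (k - i) = k + 1 by omega] at hyg
      rw [grK_intCast_mul' _ hyg, intCast_sign (A := KGr.Gr P), hy' i hi', cseq_eq, mul_assoc,
        grK_mul (hy i hi') hg, show i + 1 + (k - i) = k + 1 by omega]
    rw [grK_intCast_mul' _ (sub_mem hmain (Submodule.sum_mem _ hm)), h2,
      grK_intCast_mul' _ (gamma_red_mem x (k + 1)), grK_sum _ _ hm, Finset.sum_congr rfl hterm]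
    exact (newton_solve (A := KGr.Gr P) k _ _ _ hrec).symm

theorem red_eq_self {x : K} (hK : HasSplitting K P) {n : ℕ} (hn : 1 ≤ n) (hx : x ∈ (qG P).G n) : red P x = x := by
  simp [red, aug_eq_zero_of_mem hK hn hx]

/-- the Chern classes below the degree vanish -/
theorem cseq_low (hK : HasSplitting K P) {m : ℕ} {x : K} (hx : x ∈ (qG P).G (m + 1)) {i : ℕ} (hi : i < m) :
    cseq P x (i + 1) = 0 := by
  rw [cseq_eq, red_eq_self hK (Nat.le_add_left 1 m) hx]
  exact grK_eq_zero ((qG P).anti (by omega) (gamma_mem hK hx i))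

theorem nw_low (hK : HasSplitting K P) {m : ℕ} {x : K} (hx : x ∈ (qG P).G (m + 1)) {k : ℕ} (hk : k < m) :
    nw (cseq P x) k = 0 := by
  rw [nw_congr (d := single 0) (cseq_zero x) rfl k fun t ht1 ht2 => ?_,
    Groth.Agent.Lead.Lam.nw_single, zero_pow (Nat.succ_ne_zero k)]
  obtain ⟨i, rfl⟩ : ∃ i, t = i + 1 := ⟨t - 1, by omega⟩
  rw [cseq_low hK hx (by omega)]
  simp [single]

theorem nw_lead (hK : HasSplitting K P) {m : ℕ} {x : K} (hx : x ∈ (qG P).G (m + 1)) :
    nw (cseq P x) m = ((m + 1).factorial : ℚ) • KGr.grK P ((m + 1 : ℕ) : ℤ) x := by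
  have hrec := rec_split (c := cseq P x) (cseq_zero x) m
  rw [Finset.sum_eq_zero (fun i hi => by rw [nw_low hK hx (Finset.mem_range.1 hi), mul_zero, zero_mul]), sub_zero] at hrec
  have hc : cseq P x (m + 1) = (((-1 : ℤ) ^ m * (m.factorial : ℤ) : ℤ) : KGr.Gr P) * KGr.grK P ((m + 1 : ℕ) : ℤ) x := by
    rw [cseq_eq, red_eq_self hK (Nat.le_add_left 1 m) hx, ← grK_intCast_mul' _ hx]
    refine grK_congr (Ideal.mul_mem_left _ _ hx) ?_
    have := gamma_top hK hx
    push_cast
    exact this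
  exact lead_solve (A := KGr.Gr P) m _ _ _ hrec hc

/-- the Chern character of `x` in the `(m+1)`-st step: leading term plus higher ones -/
theorem chK_lead (hK : HasSplitting K P) {m d : ℕ} (hmd : m < d) {x : K} (hx : x ∈ (qG P).G (m + 1)) :
    KGr.chK P d x = KGr.grK P ((m + 1 : ℕ) : ℤ) x +
      ∑ k ∈ Finset.Ioo m d, (1 / ((k + 1).factorial : ℚ)) • nw (cseq P x) k := by
  rw [chK_eq, aug_eq_zero_of_mem hK (Nat.le_add_left 1 m) hx, Int.cast_zero, map_zero, zero_add,
    Finset.range_eq_Ico, ← Finset.sum_Ico_consecutive _ (Nat.zero_le m) hmd.le,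
    Finset.sum_eq_zero (fun k hk => by rw [nw_low hK hx (Finset.mem_Ico.1 hk).2, smul_zero]), zero_add,
    Finset.sum_eq_sum_Ico_succ_bot hmd, nw_lead hK hx, smul_smul,
    one_div_mul_cancel (by exact_mod_cast Nat.factorial_ne_zero _), one_smul]
  congr 1

theorem chK_one (d : ℕ) : KGr.chK P d (1 : K) = 1 := by
  rw [chK_eq, map_one P.aug, Int.cast_one, map_one]
  refine (add_eq_left).2 (Finset.sum_eq_zero fun k _ => ?_)
  rw [nw_congr (d := single 0) (cseq_zero 1) rfl k fun t ht1 ht2 => ?_,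
    Groth.Agent.Lead.Lam.nw_single, zero_pow (Nat.succ_ne_zero k), smul_zero]
  obtain ⟨i, rfl⟩ : ∃ i, t = i + 1 := ⟨t - 1, by omega⟩
  rw [cseq_eq, show red P (1 : K) = 0 by simp [red], gamma_zero_eq, grK_zero]
  simp [single]

end

end Groth.Agent.Lead.ChernChar
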