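import Groth.Agent.Lead.ChernChar.Character

/-! Adams eigenvectors and the Chern character. -/

set_option autoImplicit false

open Finset

namespace Groth.Agent.Lead.ChernChar

open LambdaRing Groth.Agent.LamG
open Groth.Agent.Lead.Lam (nw nw_congr rec_split single es map_esymm')

universe u

noncomputable section

variable {K : Type u} [CommRing K] [LambdaOps K] {P : PosStructure K}

/-- Adams operations commute with the λ-operations -/
theorem posAdams_lam (hK : HasSplitting K P) (k i : ℕ) (x : K) :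
    posAdams hK k (LambdaOps.lam i x) = LambdaOps.lam i (posAdams hK k x) := by
  have hpos : ∀ e ∈ P.pos, ∀ i, posAdams hK k (LambdaOps.lam i e) = LambdaOps.lam i (posAdams hK k e) := by
    intro e he i
    obtain ⟨L, φ, hL, hφ, s, hs, hse⟩ := split1_splitting hK he
    apply hφ.injective
    change φ (adamsOp (k + 1) (LambdaOps.lam i e)) = φ (LambdaOps.lam i (adamsOp (k + 1) e))
    rw [map_adamsOp φ hφ.isLambdaHom, hφ.isLambdaHom, hφ.isLambdaHom, map_adamsOp φ hφ.isLambdaHom, ← hse,
      adamsOp_sum_lines hs]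
    have h1 := congrFun (lamSeq_sum_lines s fun u hu => isLine_lam (hs u hu)) i
    have h2 := congrFun (lamSeq_sum_lines (s.map (· ^ (k + 1))) fun v hv => by
      obtain ⟨a, ha, rfl⟩ := Multiset.mem_map.1 hv
      exact isLine_lam (isLine_pow (hs a ha) _)) i
    simp only [es] at h1 h2
    rw [h1, h2]
    change posAdams hL k (s.esymm i) = _
    rw [map_esymm' (posAdams hL k)]
    congr 1
    exact Multiset.map_congr rfl fun u hu => adamsOp_line (isLine_lam (hs u hu)) k
  obtain ⟨e, f, he, hf, rfl⟩ := P.exists_sub x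
  have hs : ∀ z, (∀ i, posAdams hK k (LambdaOps.lam i z) = LambdaOps.lam i (posAdams hK k z)) →
      PowerSeries.map (posAdams hK k) (lamSeries z) = lamSeries (posAdams hK k z) := fun z hz => by
    ext n; simp [lamSeries, hz]
  have h := congrArg (PowerSeries.map (posAdams hK k)) (lamSeries_add (e - f) f)
  rw [sub_add_cancel, map_mul, hs e (hpos e he), hs f (hpos f hf)] at h
  have h' := lamSeries_add (posAdams hK k e - posAdams hK k f) (posAdams hK k f)
  rw [sub_add_cancel, h] at h'
  have hu : IsUnit (lamSeries (posAdams hK k f)) :=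
    PowerSeries.isUnit_iff_constantCoeff.2 (by
      rw [← PowerSeries.coeff_zero_eq_constantCoeff_apply]; simp [lamSeries, LambdaOps.lam_zero])
  have h2 := congrArg (PowerSeries.coeff i) (hu.mul_right_cancel h')
  rw [map_sub]
  simpa [lamSeries] using h2

theorem nw_scale {R : Type*} [CommRing R] (a : R) {c : ℕ → R} (hc : c 0 = 1) (k : ℕ) :
    nw (fun t => a ^ t * c t) k = a ^ (k + 1) * nw c k := by
  induction k using Nat.strong_induction_on with
  | _ k ih =>
    have h1 := rec_split (c := fun t => a ^ t * c t) (by simp [hc]) k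
    have h2 := rec_split (c := c) hc k
    have hsum : ∑ i ∈ range k, (-1) ^ i * nw (fun t => a ^ t * c t) i * (a ^ (k - i) * c (k - i)) =
        a ^ (k + 1) * ∑ i ∈ range k, (-1) ^ i * nw c i * c (k - i) := by
      rw [Finset.mul_sum]
      refine Finset.sum_congr rfl fun i hi => ?_
      have hi' := Finset.mem_range.1 hi
      rw [ih i hi']
      have e : a ^ (k + 1) = a ^ (i + 1) * a ^ (k - i) := by rw [← pow_add]; congr 1; omega
      rw [e]; ring
    have e : (-1 : R) ^ k * nw (fun t => a ^ t * c t) k = (-1) ^ k * (a ^ (k + 1) * nw c k) := by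
      rw [h1, hsum, mul_left_comm ((-1 : R) ^ k), h2]; ring
    exact (IsUnit.pow k isUnit_one.neg).mul_left_cancel e

theorem natCast_pow_mul_mem {n : ℕ} {x : K} (hx : x ∈ (qG P).G n) (a i : ℕ) : (a : K) ^ i * x ∈ (qG P).G n :=
  Ideal.mul_mem_left _ _ hx

/-- Chern classes of `ψ^(j) x` -/
theorem cseq_adams (hK : HasSplitting K P) (k : ℕ) (x : K) :
    cseq P (adamsOp (k + 1) x) = fun t => ((k + 1 : ℕ) : KGr.Gr P) ^ t * cseq P x t := by
  funext t
  have hr : red P (adamsOp (k + 1) x) = posAdams hK k (red P x) := by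
    change adamsOp (k + 1) x - (P.aug (adamsOp (k + 1) x) : K) = posAdams hK k (x - (P.aug x : K))
    rw [map_sub, map_intCast, aug_adamsOp hK]
    rfl
  rw [cseq_eq, hr, ← Groth.Agent.LamG.map_gamma (posAdams hK k) (fun i x => posAdams_lam hK k i x)]
  change KGr.grK P (t : ℤ) (adamsOp (k + 1) (gamma t (red P x))) = _
  have hg := gamma_red_mem (P := P) x t
  rw [grK_congr (natCast_pow_mul_mem hg (k + 1) t) (adams_sub_mem_qG hK hg k), cseq_eq]
  have h := grK_intCast_mul' (((k + 1 : ℕ) : ℤ) ^ t) hg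
  rw [Int.cast_pow, Int.cast_natCast, Int.cast_pow, Int.cast_natCast] at h
  exact h

theorem pow_ne {j : ℕ} (hj : 2 ≤ j) {m n : ℕ} (h : m ≠ n) : (j : ℤ) ^ m - (j : ℤ) ^ n ≠ 0 := by
  rw [sub_ne_zero, ← Nat.cast_pow, ← Nat.cast_pow, Ne, Nat.cast_inj]
  exact fun e => h (Nat.pow_right_injective hj e)

/-- saturation by a nonzero integer -/
theorem qG_saturated_int {n : ℕ} {x : K} {c : ℤ} (hc : c ≠ 0) (h : (c : K) * x ∈ (qG P).G n) : x ∈ (qG P).G n := by
  refine qG_saturated (N := c.natAbs) (Int.natAbs_pos.2 hc) ?_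
  rcases Int.natAbs_eq c with h' | h' <;> rw [h'] at h
  · simpa using h
  · simpa using neg_mem h

theorem mem_of_adams_congr (hK : HasSplitting K P) {j : ℕ} (hj : 2 ≤ j) {n : ℕ} {x : K}
    (hx : adamsOp j x - (j : K) ^ n * x ∈ (qG P).G (n + 1)) : ∀ m ≤ n, x ∈ (qG P).G m := by
  intro m
  induction m with
  | zero => intro _; exact (qG P).zero_eq ▸ Submodule.mem_top
  | succ m ih =>
    intro hm
    obtain ⟨k, rfl⟩ : ∃ k, j = k + 1 := ⟨j - 1, by omega⟩
    have h1 := adams_sub_mem_qG hK (ih (by omega)) k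
    have h2 := (qG P).anti (show m + 1 ≤ n + 1 by omega) hx
    have h3 := sub_mem h1 h2
    refine qG_saturated_int (pow_ne hj (show n ≠ m by omega)) ?_
    convert h3 using 1
    push_cast
    ring

theorem int_smul_eq_zero {A : Type*} [AddCommGroup A] [Module ℚ A] {c : ℤ} (hc : c ≠ 0) {a : A} (h : c • a = 0) : a = 0 := by
  rw [← Int.cast_smul_eq_zsmul ℚ] at h
  exact (smul_eq_zero.1 h).resolve_left (Int.cast_ne_zero.2 hc)

theorem int_smul_cancel {A : Type*} [AddCommGroup A] [Module ℚ A] {c : ℤ} (hc : c ≠ 0) {a b : A} (h : c • a = c • b) : a = b :=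
  sub_eq_zero.1 (int_smul_eq_zero hc (by rw [smul_sub, h, sub_self]))

/-- an eigenvector in degree `n` -/
def Eig (P : PosStructure K) (n : ℕ) (x : K) : Prop := x ∈ (qG P).G n ∧ adamsOp 2 x = (2 : K) ^ n * x

theorem Eig.intCast_mul (hK : HasSplitting K P) {n : ℕ} {x : K} (h : Eig P n x) (c : ℤ) : Eig P n ((c : K) * x) := by
  refine ⟨Ideal.mul_mem_left _ _ h.1, ?_⟩
  change posAdams hK 1 ((c : K) * x) = _
  rw [map_mul, map_intCast, show posAdams hK 1 x = adamsOp 2 x from rfl, h.2]
  ring

theorem Eig.mul (hK : HasSplitting K P) {n m : ℕ} {x y : K} (hx : Eig P n x) (hy : Eig P m y) :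
    Eig P (n + m) (x * y) := by
  refine ⟨(qG P).mul_mem hx.1 hy.1, ?_⟩
  change posAdams hK 1 (x * y) = _
  rw [map_mul, show posAdams hK 1 x = adamsOp 2 x from rfl, show posAdams hK 1 y = adamsOp 2 y from rfl, hx.2, hy.2]
  ring

/-- the Chern character of an eigenvector is its class -/
theorem chK_eig (hK : HasSplitting K P) {d : ℕ} (hd : LambdaRing.gammaFiltration P (d + 1) = ⊥) {n : ℕ} {x : K}
    (hx : Eig P n x) : KGr.chK P d x = KGr.grK P (n : ℤ) x := by
  let T : ℕ → K →+ KGr.Gr P := fun k => AddMonoidHom.mk' (fun y => nw (cseq P y) k) fun a b => by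
    rw [cseq_add, Groth.Agent.Lead.Lam.nw_conv (cseq_zero a) (cseq_zero b)]
  have hzero : ∀ k, k + 1 ≠ n → nw (cseq P x) k = 0 := by
    intro k hk
    have h1 : nw (cseq P (adamsOp (1 + 1) x)) k = ((1 + 1 : ℕ) : KGr.Gr P) ^ (k + 1) * nw (cseq P x) k := by
      rw [cseq_adams hK, nw_scale _ (cseq_zero x)]
    have h2 : nw (cseq P (adamsOp (1 + 1) x)) k = ((2 : ℤ) ^ n) • nw (cseq P x) k := by
      rw [show adamsOp (1 + 1) x = ((2 : ℤ) ^ n) • x by rw [zsmul_eq_mul]; exact hx.2.trans (by push_cast; rfl)]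
      exact map_zsmul (T k) _ x
    have h3 : ((2 : ℤ) ^ n - (2 : ℤ) ^ (k + 1)) • nw (cseq P x) k = 0 := by
      rw [sub_smul, ← h2, h1, sub_eq_zero, zsmul_eq_mul, Int.cast_pow]
      simp
    exact int_smul_eq_zero (pow_ne (j := 2) le_rfl (Ne.symm hk)) h3
  rw [chK_eq]
  rcases Nat.eq_zero_or_pos n with rfl | hn
  · rw [Finset.sum_eq_zero (fun k _ => by rw [hzero k (Nat.succ_ne_zero k), smul_zero]), add_zero,
      grK_congr (y := ((P.aug x : ℤ) : K) * 1) ((qG P).zero_eq ▸ Submodule.mem_top)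
        (by rw [mul_one]; exact sub_aug_mem_one x),
      grK_intCast_mul' _ ((qG P).zero_eq ▸ Submodule.mem_top), grK_zero_one, mul_one, map_intCast]
  · obtain ⟨m, rfl⟩ : ∃ m, n = m + 1 := ⟨n - 1, by omega⟩
    rw [aug_eq_zero_of_mem hK hn hx.1, Int.cast_zero, map_zero, zero_add]
    rcases Nat.lt_or_ge m d with hm | hm
    · rw [Finset.sum_eq_single m (fun k _ hk => by rw [hzero k (by omega), smul_zero])
        (fun h => absurd (Finset.mem_range.2 hm) h), nw_lead hK hx.1, smul_smul,
        one_div_mul_cancel (by exact_mod_cast Nat.factorial_ne_zero _), one_smul]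
    · rw [Finset.sum_eq_zero fun k hk => by
        rw [hzero k (by have := Finset.mem_range.1 hk; omega), smul_zero]]
      obtain ⟨N, hN, hNx⟩ := hx.1
      have hb := (mem_gammaFiltration_iff P (d + 1) _).2 (gammaFil_anti _ (show d + 1 ≤ m + 1 by omega) hNx)
      rw [hd] at hb
      exact (grK_eq_zero ⟨N, hN, by rw [show (N : K) * x = 0 by simpa using hb]; exact zero_mem _⟩).symm

/-- rational decomposition into eigenvectors -/
theorem exists_eig (hK : HasSplitting K P) {d : ℕ} (hd : LambdaRing.gammaFiltration P (d + 1) = ⊥) :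
    ∀ t n : ℕ, d + 1 ≤ n + t → ∀ x ∈ (qG P).G n, ∃ (N : ℤ) (f : ℕ → K), N ≠ 0 ∧ (∀ i, Eig P i (f i)) ∧
      (∀ i, i < n → f i = 0) ∧ (N : K) * x = ∑ i ∈ range (d + 1), f i := by
  have hz : ∀ i, Eig P i (0 : K) := fun i => ⟨zero_mem _, by
    change posAdams hK 1 0 = _
    rw [map_zero, mul_zero]⟩
  intro t
  induction t with
  | zero =>
    rintro n hn x ⟨N, hN, hNx⟩
    refine ⟨N, fun _ => 0, by omega, hz, fun _ _ => rfl, ?_⟩
    have hb := (mem_gammaFiltration_iff P (d + 1) _).2 (gammaFil_anti _ (show d + 1 ≤ n by omega) hNx)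
    rw [hd] at hb
    simpa using hb
  | succ t ih =>
    intro n hn x hx
    obtain ⟨N, f, hN, hf, hfl, hsum⟩ := ih (n + 1) (by omega) _ (adams_sub_mem_qG hK hx 1)
    rcases Nat.lt_or_ge d n with hdn | hdn
    · exact ih n (by omega) x hx
    let w : ℕ → ℤ := fun i => if n < i then (2 : ℤ) ^ i - (2 : ℤ) ^ n else 1
    have hw : ∀ i, w i ≠ 0 := fun i => by
      simp only [w]; split_ifs with h
      · exact pow_ne (j := 2) le_rfl h.ne'
      · exact one_ne_zero
    let M : ℤ := ∏ i ∈ range (d + 1), w i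
    let c : ℕ → ℤ := fun i => ∏ l ∈ (range (d + 1)).erase i, w l
    have hc : ∀ i ∈ range (d + 1), w i * c i = M := fun i hi => Finset.mul_prod_erase _ w hi
    let g : ℕ → K := fun i => (c i : K) * f i
    have hgl : ∀ i, i < n + 1 → g i = 0 := fun i hi => by simp [g, hfl i hi]
    let S := ∑ i ∈ range (d + 1), g i
    have hgn : ∀ i, g i ∈ (qG P).G n := fun i => by
      rcases Nat.lt_or_ge i (n + 1) with hi | hi
      · rw [hgl i hi]; exact zero_mem _
      · exact (qG P).anti (by omega) ((hf i).intCast_mul hK (c i)).1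
    have hmain : Eig P n ((M : K) * ((N : K) * x) - S) := by
      refine ⟨sub_mem (Ideal.mul_mem_left _ _ (Ideal.mul_mem_left _ _ hx)) (Submodule.sum_mem _ fun i _ => hgn i), ?_⟩
      change posAdams hK 1 _ = _
      rw [map_sub, map_mul, map_mul, map_intCast, map_intCast, map_sum]
      have h1 : ∀ i ∈ range (d + 1), posAdams hK 1 (g i) = (2 : K) ^ n * g i + (M : K) * f i := by
        intro i hi
        rcases Nat.lt_or_ge i (n + 1) with hi' | hi'
        · rw [hgl i hi', hfl i hi', map_zero, mul_zero, mul_zero, add_zero]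
        · rw [show posAdams hK 1 (g i) = (2 : K) ^ i * g i from ((hf i).intCast_mul hK (c i)).2, ← hc i hi]
          simp only [w, g, if_pos (show n < i by omega)]
          push_cast; ring
      rw [Finset.sum_congr rfl h1, Finset.sum_add_distrib, ← Finset.mul_sum, ← Finset.mul_sum, ← hsum]
      change (M : K) * ((N : K) * adamsOp (1 + 1) x) - _ = _
      push_cast
      ring
    refine ⟨M * N, fun i => if i = n then (M : K) * ((N : K) * x) - S else g i,
      mul_ne_zero (Finset.prod_ne_zero_iff.2 fun i _ => hw i) hN, fun i => ?_, fun i hi => ?_, ?_⟩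
    · dsimp only
      split_ifs with h
      · exact h ▸ hmain
      · exact (hf i).intCast_mul hK (c i)
    · dsimp only
      rw [if_neg hi.ne, hgl i (by omega)]
    · have hn' : n ∈ range (d + 1) := Finset.mem_range.2 (by omega)
      rw [← Finset.add_sum_erase _ _ hn', if_pos rfl,
        Finset.sum_congr rfl (fun i hi => if_neg (Finset.ne_of_mem_erase hi)),
        show S = g n + ∑ i ∈ (range (d + 1)).erase n, g i from (Finset.add_sum_erase _ _ hn').symm,
        hgl n (Nat.lt_succ_self n)]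
      push_cast
      ring

/-- the Chern character is multiplicative -/
theorem chK_mul (hK : HasSplitting K P) {d : ℕ} (hd : LambdaRing.gammaFiltration P (d + 1) = ⊥) (x y : K) :
    KGr.chK P d (x * y) = KGr.chK P d x * KGr.chK P d y := by
  let C : K →+ KGr.Gr P := AddMonoidHom.mk' (KGr.chK P d) (chK_add d)
  obtain ⟨N, f, hN, hf, -, hfs⟩ := exists_eig hK hd (d + 1) 0 (by omega) x ((qG P).zero_eq ▸ Submodule.mem_top)
  obtain ⟨M, g, hM, hg, -, hgs⟩ := exists_eig hK hd (d + 1) 0 (by omega) y ((qG P).zero_eq ▸ Submodule.mem_top)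
  have hC : ∀ (z : ℤ) (v : K), C ((z : K) * v) = z • C v := fun z v => by rw [← zsmul_eq_mul, map_zsmul]
  have h : (N * M) • C (x * y) = (N * M) • (C x * C y) := by
    rw [← smul_mul_smul_comm, ← hC, ← hC, ← hC, hfs, hgs,
      show ((N * M : ℤ) : K) * (x * y) = ((N : K) * x) * ((M : K) * y) by push_cast; ring, hfs, hgs,
      Finset.sum_mul_sum, map_sum, map_sum, map_sum, Finset.sum_mul_sum]
    refine Finset.sum_congr rfl fun i _ => ?_
    rw [map_sum]
    refine Finset.sum_congr rfl fun l _ => ?_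
    change KGr.chK P d (f i * g l) = KGr.chK P d (f i) * KGr.chK P d (g l)
    rw [chK_eig hK hd ((hf i).mul hK (hg l)), chK_eig hK hd (hf i), chK_eig hK hd (hg l), grK_mul (hf i).1 (hg l).1]
  exact int_smul_cancel (mul_ne_zero hN hM) h

end

end Groth.Agent.Lead.ChernChar
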