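import Groth.Prelude.Def_KGr
import Groth.Agent.LamG.Rational
import Groth.Agent.LamG.Factorial
import Mathlib.RingTheory.Localization.BaseChange
import Mathlib.RingTheory.Localization.FractionRing

/-! The associated graded ring of the rational γ-filtration. -/

set_option autoImplicit false

open Finset
open scoped TensorProduct

namespace Groth.Agent.Lead.ChernChar

open LambdaRing Groth.Agent.LamG

universe u

noncomputable section

/-- multiplication by a natural number commutes with `⊗` on the right -/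
theorem tmul_eq_zero_exists {M : Type u} [AddCommGroup M] {a : M}
    (h : (1 : ℚ) ⊗ₜ[ℤ] a = 0) : ∃ N : ℕ, 1 ≤ N ∧ N • a = 0 := by
  obtain ⟨⟨s, hs⟩, hsa⟩ := (IsLocalizedModule.eq_zero_iff (nonZeroDivisors ℤ) (TensorProduct.mk ℤ ℚ M 1)).1 h
  have hs0 : s ≠ 0 := nonZeroDivisors.ne_zero hs
  refine ⟨s.natAbs, Int.natAbs_pos.2 hs0, ?_⟩
  have hsa' : s • a = 0 := hsa
  rcases Int.natAbs_eq s with h' | h' <;> rw [h'] at hsa'
  · rwa [natCast_zsmul] at hsa'
  · rwa [neg_smul, natCast_zsmul, neg_eq_zero] at hsa'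

variable {K : Type u} [CommRing K] [LambdaOps K] (P : PosStructure K)

/-- the saturation of the γ-filtration -/
def qG : GFil K where
  G n :=
    { carrier := {x | ∃ N : ℕ, 1 ≤ N ∧ (N : K) * x ∈ gammaFil P.aug n}
      zero_mem' := ⟨1, le_rfl, by simp⟩
      add_mem' := by
        rintro a b ⟨N, hN, ha⟩ ⟨M, hM, hb⟩
        refine ⟨N * M, one_le_mul hN hM, ?_⟩
        have := add_mem (Ideal.mul_mem_left _ (M : K) ha) (Ideal.mul_mem_left _ (N : K) hb)
        convert this using 1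
        push_cast; ring
      smul_mem' := by
        rintro c a ⟨N, hN, ha⟩
        exact ⟨N, hN, by rw [smul_eq_mul, mul_left_comm]; exact Ideal.mul_mem_left _ c ha⟩ }
  zero_eq := eq_top_iff.2 fun x _ => ⟨1, le_rfl, by rw [gammaFil_zero]; trivial⟩
  anti := fun h x ⟨N, hN, hx⟩ => ⟨N, hN, gammaFil_anti _ h hx⟩
  mul_mem := fun {m n a b} ⟨N, hN, ha⟩ ⟨M, hM, hb⟩ => ⟨N * M, one_le_mul hN hM, by
    have := gammaFil_mul_mem _ ha hb
    convert this using 1
    push_cast; ring⟩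

variable {P}

theorem mem_qG_of_mem {n : ℕ} {x : K} (h : x ∈ gammaFil P.aug n) : x ∈ (qG P).G n := ⟨1, le_rfl, by simpa⟩

theorem qG_saturated {n : ℕ} {x : K} {N : ℕ} (hN : 1 ≤ N) (h : (N : K) * x ∈ (qG P).G n) :
    x ∈ (qG P).G n := by
  obtain ⟨M, hM, hM'⟩ := h
  exact ⟨M * N, one_le_mul hM hN, by simpa [mul_assoc] using hM'⟩

theorem aug_lam_of_aug_zero (hK : HasSplitting K P) {x : K} (hx : P.aug x = 0) (j : ℕ) (hj : 0 < j) :
    P.aug (LambdaOps.lam j x) = 0 := by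
  obtain ⟨e, f, he, hf, rfl⟩ := P.exists_sub x
  rw [map_sub, sub_eq_zero] at hx
  have hef : PowerSeries.map P.aug (lamSeries e) = PowerSeries.map P.aug (lamSeries f) := by
    ext k
    simp [lamSeries, aug_lam hK he, aug_lam hK hf, hx]
  have h := congrArg (PowerSeries.map P.aug) (lamSeries_add (e - f) f)
  rw [sub_add_cancel, map_mul, hef] at h
  have hu : IsUnit (PowerSeries.map P.aug (lamSeries f)) :=
    PowerSeries.isUnit_iff_constantCoeff.2 (by rw [← PowerSeries.coeff_zero_eq_constantCoeff_apply, PowerSeries.coeff_map]; simp [lamSeries, LambdaOps.lam_zero])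
  have h1 : PowerSeries.map P.aug (lamSeries (e - f)) = 1 := hu.mul_eq_right.1 h.symm
  have h2 := congrArg (PowerSeries.coeff j) h1
  rw [PowerSeries.coeff_map, PowerSeries.coeff_one, if_neg hj.ne'] at h2
  simpa [lamSeries] using h2

theorem aug_eq_zero_of_mem (hK : HasSplitting K P) {n : ℕ} (hn : 1 ≤ n) {x : K} (h : x ∈ (qG P).G n) :
    P.aug x = 0 := by
  have hle : gammaFil P.aug n ≤ RingHom.ker P.aug := by
    refine Ideal.span_le.2 ?_
    rintro _ ⟨l, h1, h2, rfl⟩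
    rw [SetLike.mem_coe, RingHom.mem_ker, map_list_prod, List.prod_eq_zero_iff, List.map_map]
    obtain ⟨p, hp, hp0⟩ : ∃ p ∈ l, p.1 ≠ 0 := by
      by_contra hcon
      push_neg at hcon
      have : (l.map Prod.fst).sum = 0 := List.sum_eq_zero fun a ha => by
        obtain ⟨p, hp, rfl⟩ := List.mem_map.1 ha
        exact hcon p hp
      omega
    refine List.mem_map.2 ⟨p, hp, ?_⟩
    obtain ⟨q, hq⟩ := Nat.exists_eq_succ_of_ne_zero hp0
    rw [Function.comp_apply, hq]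
    simp only [gamma, Nat.succ_ne_zero, if_false, map_sum, map_mul, map_natCast]
    refine Finset.sum_eq_zero fun j _ => ?_
    rcases Nat.eq_zero_or_pos j with rfl | hj
    · simp
    · rw [if_neg hj.ne']
      have : P.aug (LambdaOps.lam j p.2) = 0 := by
        exact aug_lam_of_aug_zero hK (h1 p hp) j hj
      rw [this, mul_zero]
  obtain ⟨N, hN, hNx⟩ := h
  have h0 := hle hNx
  rw [RingHom.mem_ker, map_mul, map_natCast] at h0
  rcases mul_eq_zero.1 h0 with h0 | h0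
  · exact absurd (Nat.cast_eq_zero.1 h0) (by omega)
  · exact h0

theorem mem_qG_iff {n : ℕ} {x : K} : x ∈ (qG P).G n ↔ ∃ N : ℕ, 1 ≤ N ∧ (N : K) * x ∈ gammaFil P.aug n := Iff.rfl

theorem sub_aug_mem_one (x : K) : x - (P.aug x : K) ∈ (qG P).G 1 :=
  mem_qG_of_mem (mem_gammaFil_one _ (by simp))

/-- Adams operations act by `(k+1)^m` on the graded pieces -/
theorem adams_sub_mem_qG (hK : HasSplitting K P) {m : ℕ} {x : K} (hx : x ∈ (qG P).G m) (k : ℕ) :
    adamsOp (k + 1) x - ((k + 1 : ℕ) : K) ^ m * x ∈ (qG P).G (m + 1) := by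
  obtain ⟨N, hN, hNx⟩ := hx
  refine ⟨N, hN, ?_⟩
  have h := adams_sub_pow_mem hK k m hNx
  have hN' : adamsOp (k + 1) ((N : K) * x) = (N : K) * adamsOp (k + 1) x := by
    change posAdams hK k ((N : K) * x) = (N : K) * posAdams hK k x
    rw [map_mul, map_natCast]
  rw [hN'] at h
  convert h using 1
  ring

/-- leading term of the λ-operations -/
theorem lam_congr (hK : HasSplitting K P) {m : ℕ} {x : K} (hx : x ∈ (qG P).G (m + 1)) (n : ℕ) :
    LambdaOps.lam (n + 1) x - (-1) ^ n * ((n + 1 : ℕ) : K) ^ m * x ∈ (qG P).G (m + 1 + 1) := by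
  induction n using Nat.strong_induction_on with
  | _ n ih =>
    refine qG_saturated (N := n + 1) (by omega) ?_
    have hrec := Groth.Agent.Lead.Lam.rec_eq (c := fun t => LambdaOps.lam t x) (LambdaOps.lam_zero x) n
    rw [Finset.sum_range_succ, Nat.sub_self, LambdaOps.lam_zero, mul_one,
      ← Groth.Agent.Lead.Lam.adamsOp_eq] at hrec
    have hlam : ∀ t, t < n → LambdaOps.lam (t + 1) x ∈ (qG P).G (m + 1) := fun t ht => by
      have h1 := (qG P).anti (Nat.le_succ (m + 1)) (ih t ht)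
      have h2 := add_mem h1 (Ideal.mul_mem_left _ ((-1) ^ t * ((t + 1 : ℕ) : K) ^ m) hx)
      simpa using h2
    have hsum : ∑ i ∈ range n, (-1) ^ i * Groth.Agent.Lead.Lam.nw (fun t => LambdaOps.lam t x) i *
        LambdaOps.lam (n - i) x ∈ (qG P).G (m + 1 + 1) := by
      refine Submodule.sum_mem _ fun i hi => ?_
      have hi' : i < n := Finset.mem_range.1 hi
      rw [← Groth.Agent.Lead.Lam.adamsOp_eq, mul_assoc]
      refine Ideal.mul_mem_left _ _ ((qG P).anti (show m + 1 + 1 ≤ (m + 1) + (m + 1) by omega) ((qG P).mul_mem ?_ ?_))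
      · have h1 := (qG P).anti (Nat.le_succ (m + 1)) (adams_sub_mem_qG hK hx i)
        have h2 := add_mem h1 (Ideal.mul_mem_left _ (((i + 1 : ℕ) : K) ^ (m + 1)) hx)
        simpa using h2
      · obtain ⟨t, ht⟩ : ∃ t, n - i = t + 1 := ⟨n - i - 1, by omega⟩
        rw [ht]
        exact hlam t (by omega)
    have h1 := add_mem hsum (Ideal.mul_mem_left _ ((-1 : K) ^ n) (adams_sub_mem_qG hK hx n))
    convert h1 using 1
    push_cast at hrec ⊢
    linear_combination hrec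

theorem lam_mem (hK : HasSplitting K P) {m : ℕ} {x : K} (hx : x ∈ (qG P).G (m + 1)) (n : ℕ) :
    LambdaOps.lam (n + 1) x ∈ (qG P).G (m + 1) := by
  have h2 := add_mem ((qG P).anti (Nat.le_succ (m + 1)) (lam_congr hK hx n))
    (Ideal.mul_mem_left _ ((-1) ^ n * ((n + 1 : ℕ) : K) ^ m) hx)
  simpa using h2

theorem gamma_mem (hK : HasSplitting K P) {m : ℕ} {x : K} (hx : x ∈ (qG P).G (m + 1)) (i : ℕ) :
    gamma (i + 1) x ∈ (qG P).G (m + 1) := by
  rw [gamma_succ]
  exact Submodule.sum_mem _ fun j _ => Ideal.mul_mem_left _ _ (lam_mem hK hx j)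

theorem gamma_top (hK : HasSplitting K P) {m : ℕ} {x : K} (hx : x ∈ (qG P).G (m + 1)) :
    gamma (m + 1) x - (-1) ^ m * (m.factorial : K) * x ∈ (qG P).G (m + 1 + 1) :=
  gamma_congr_of_lam m fun n => lam_congr hK hx n

/-! ### the Rees ring -/

theorem coeff_mem {p : LaurentPolynomial K} (hp : p ∈ KGr.rees P) :
    ∀ z : ℤ, p.coeff z ∈ gammaFil P.aug (-z).toNat := by
  induction hp using Subring.closure_induction with
  | mem p hp =>
    intro z
    rcases hp with rfl | ⟨n, x, hx, rfl⟩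
    · by_cases hz : z ≤ 0
      · rw [LaurentPolynomial.T, AddMonoidAlgebra.coeff_single, Finsupp.single_eq_of_ne (by omega)]
        exact zero_mem _
      · rw [show (-z).toNat = 0 by omega, gammaFil_zero]; trivial
    · by_cases hz : z = -(n : ℤ)
      · subst hz
        rw [← LaurentPolynomial.single_eq_C_mul_T, AddMonoidAlgebra.coeff_single, Finsupp.single_eq_same,
          show (- -(n : ℤ)).toNat = n by omega]
        exact (mem_gammaFiltration_iff P n x).1 hx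
      · rw [← LaurentPolynomial.single_eq_C_mul_T, AddMonoidAlgebra.coeff_single, Finsupp.single_eq_of_ne hz]
        exact zero_mem _
  | zero => intro z; simp
  | one =>
    intro z
    by_cases hz : z = 0
    · subst hz; rw [show (-(0 : ℤ)).toNat = 0 from rfl, gammaFil_zero]; trivial
    · rw [AddMonoidAlgebra.one_def, AddMonoidAlgebra.coeff_single, Finsupp.single_eq_of_ne hz]
      exact zero_mem _
  | add a b _ _ ha hb => intro z; rw [AddMonoidAlgebra.coeff_add, Finsupp.add_apply]; exact add_mem (ha z) (hb z)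
  | neg a _ ha => intro z; rw [AddMonoidAlgebra.coeff_neg, Finsupp.neg_apply]; exact neg_mem (ha z)
  | mul a b _ _ ha hb =>
    intro z
    classical
    rw [AddMonoidAlgebra.coeff_mul, Finsupp.sum]
    refine Submodule.sum_mem _ fun i _ => ?_
    rw [Finsupp.sum]
    refine Submodule.sum_mem _ fun l _ => ?_
    split_ifs with h
    · subst h
      exact gammaFil_anti _ (by omega) (gammaFil_mul_mem _ (ha i) (hb l))
    · exact zero_mem _

/-- degree `n` part of a Rees element modulo the next step -/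
def comp (P : PosStructure K) (n : ℕ) : KGr.GrZ P →+ K ⧸ (qG P).G (n + 1) :=
  QuotientAddGroup.lift (Ideal.span {KGr.tGen P}).toAddSubgroup
    { toFun := fun p => Ideal.Quotient.mk _ ((p : LaurentPolynomial K).coeff (-(n : ℤ)))
      map_zero' := by simp
      map_add' := fun a b => by simp }
    (fun p hp => by
      obtain ⟨q, rfl⟩ := Ideal.mem_span_singleton'.1 (show p ∈ Ideal.span {KGr.tGen P} from hp)
      change Ideal.Quotient.mk _ _ = 0
      rw [Ideal.Quotient.eq_zero_iff_mem]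
      refine mem_qG_of_mem ?_
      have h := coeff_mem q.2 (-((n + 1 : ℕ) : ℤ))
      rw [show (-(-((n + 1 : ℕ) : ℤ))).toNat = n + 1 by omega] at h
      convert h using 1
      rw [Subring.coe_mul]
      change ((q : LaurentPolynomial K) * LaurentPolynomial.T 1).coeff _ = _
      rw [LaurentPolynomial.T]
      rw [show (-(n : ℤ)) = -((n + 1 : ℕ) : ℤ) + 1 by omega, AddMonoidAlgebra.coeff_mul_single_eq_coeff_mul (-((n + 1 : ℕ) : ℤ))
        (fun a _ => by omega), mul_one])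

/-- the class of an element of the `n`-th step in degree `n` -/
def gen (n : ℕ) (x : K) (hx : x ∈ gammaFil P.aug n) : KGr.GrZ P :=
  Ideal.Quotient.mk _ ⟨LaurentPolynomial.C x * LaurentPolynomial.T (-(n : ℤ)),
    Subring.subset_closure (Or.inr ⟨n, x, (mem_gammaFiltration_iff P n x).2 hx, rfl⟩)⟩

theorem gen_congr {n m : ℕ} {x y : K} (hnm : n = m) (hxy : x = y) (hx : x ∈ gammaFil P.aug n)
    (hy : y ∈ gammaFil P.aug m) : gen n x hx = gen m y hy := by
  subst hnm hxy; rfl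

theorem gen_add {n : ℕ} {x y : K} (hx : x ∈ gammaFil P.aug n) (hy : y ∈ gammaFil P.aug n) :
    gen n (x + y) (add_mem hx hy) = gen n x hx + gen n y hy := by
  rw [gen, gen, gen, ← map_add]
  congr 1
  ext1
  simp [add_mul]

/-- `gen` as an additive map -/
def genHom (P : PosStructure K) (n : ℕ) : gammaFil P.aug n →+ KGr.GrZ P :=
  AddMonoidHom.mk' (fun x => gen n x.1 x.2) fun a b => gen_add a.2 b.2

theorem gen_mul {n m : ℕ} {x y : K} (hx : x ∈ gammaFil P.aug n) (hy : y ∈ gammaFil P.aug m) :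
    gen n x hx * gen m y hy = gen (n + m) (x * y) (gammaFil_mul_mem _ hx hy) := by
  rw [gen, gen, gen, ← map_mul]
  congr 1
  ext1
  push_cast
  rw [map_mul, show -((n : ℤ) + (m : ℤ)) = -(n : ℤ) + -(m : ℤ) by ring, LaurentPolynomial.T_add]
  ring

theorem gen_eq_zero {n : ℕ} {x : K} (hx : x ∈ gammaFil P.aug (n + 1)) :
    gen n x (gammaFil_anti _ (Nat.le_succ n) hx) = 0 := by
  rw [gen, Ideal.Quotient.eq_zero_iff_mem]
  refine Ideal.mem_span_singleton'.2 ⟨⟨LaurentPolynomial.C x * LaurentPolynomial.T (-((n + 1 : ℕ) : ℤ)),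
    Subring.subset_closure (Or.inr ⟨n + 1, x, (mem_gammaFiltration_iff P _ x).2 hx, rfl⟩)⟩, ?_⟩
  ext1
  rw [Subring.coe_mul]
  change LaurentPolynomial.C x * LaurentPolynomial.T _ * LaurentPolynomial.T 1 = _
  rw [mul_assoc, ← LaurentPolynomial.T_add, show -((n + 1 : ℕ) : ℤ) + 1 = -(n : ℤ) by omega]

theorem gen_zero_one : gen 0 (1 : K) (by rw [gammaFil_zero]; trivial) = (1 : KGr.GrZ P) := by
  rw [gen]
  refine (congrArg (Ideal.Quotient.mk _) ?_).trans (map_one _)
  ext1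
  simp

theorem natCast_mul_gen {n : ℕ} {x : K} (hx : x ∈ gammaFil P.aug n) (N : ℕ) :
    N • gen n x hx = gen n ((N : K) * x) (Ideal.mul_mem_left _ _ hx) := by
  induction N with
  | zero =>
    rw [zero_nsmul]
    refine ((gen_congr rfl (by simp) _ _).trans (gen_eq_zero (x := (0 : K)) (zero_mem _))).symm
  | succ N ih =>
    rw [succ_nsmul, ih, ← gen_add]
    exact gen_congr rfl (by push_cast; ring) _ _

/-! ### classes of rational elements -/

theorem grK_eq {n : ℕ} {x : K} (N : ℕ) (hN : 1 ≤ N) (h : (N : K) * x ∈ gammaFil P.aug n) :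
    KGr.grK P (n : ℤ) x = ((1 : ℚ) / (N : ℚ)) ⊗ₜ[ℤ] gen n ((N : K) * x) h := by
  have hex : ∃ M : ℕ, 1 ≤ M ∧ LaurentPolynomial.C ((M : K) * x) * LaurentPolynomial.T (-(n : ℤ)) ∈ KGr.rees P :=
    ⟨N, hN, Subring.subset_closure (Or.inr ⟨n, _, (mem_gammaFiltration_iff P n _).2 h, rfl⟩)⟩
  suffices key : ∀ (M : ℕ) (hM : 1 ≤ M) (hMr : LaurentPolynomial.C ((M : K) * x) * LaurentPolynomial.T (-(n : ℤ)) ∈ KGr.rees P),
      ((1 : ℚ) / (M : ℚ)) ⊗ₜ[ℤ] Ideal.Quotient.mk (Ideal.span {KGr.tGen P}) ⟨_, hMr⟩ =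
        ((1 : ℚ) / (N : ℚ)) ⊗ₜ[ℤ] gen n ((N : K) * x) h by
    rw [KGr.grK, dif_pos hex]
    exact key _ hex.choose_spec.1 hex.choose_spec.2
  intro M hM hMr
  have hMx : (M : K) * x ∈ gammaFil P.aug n := by
    have := coeff_mem hMr (-(n : ℤ))
    rwa [← LaurentPolynomial.single_eq_C_mul_T, AddMonoidAlgebra.coeff_single, Finsupp.single_eq_same,
      show (- -(n : ℤ)).toNat = n by omega] at this
  change ((1 : ℚ) / (M : ℚ)) ⊗ₜ[ℤ] gen n ((M : K) * x) hMx = _
  have e : N • gen n ((M : K) * x) hMx = M • gen n ((N : K) * x) h := by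
    rw [natCast_mul_gen, natCast_mul_gen]
    exact gen_congr rfl (by ring) _ _
  have hM0 : (M : ℚ) ≠ 0 := Nat.cast_ne_zero.2 (by omega)
  have hN0 : (N : ℚ) ≠ 0 := Nat.cast_ne_zero.2 (by omega)
  calc ((1 : ℚ) / (M : ℚ)) ⊗ₜ[ℤ] gen n ((M : K) * x) hMx
      = (((N : ℤ)) • ((1 : ℚ) / ((M : ℚ) * N))) ⊗ₜ[ℤ] gen n ((M : K) * x) hMx := by
        congr 1; rw [zsmul_eq_mul]; push_cast; field_simp
    _ = ((1 : ℚ) / ((M : ℚ) * N)) ⊗ₜ[ℤ] ((N : ℤ) • gen n ((M : K) * x) hMx) := TensorProduct.smul_tmul _ _ _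
    _ = ((1 : ℚ) / ((M : ℚ) * N)) ⊗ₜ[ℤ] ((M : ℤ) • gen n ((N : K) * x) h) := by
        rw [natCast_zsmul, natCast_zsmul, e]
    _ = (((M : ℤ)) • ((1 : ℚ) / ((M : ℚ) * N))) ⊗ₜ[ℤ] gen n ((N : K) * x) h := (TensorProduct.smul_tmul _ _ _).symm
    _ = _ := by congr 1; rw [zsmul_eq_mul]; push_cast; field_simp

theorem grK_add {n : ℕ} {x y : K} (hx : x ∈ (qG P).G n) (hy : y ∈ (qG P).G n) :
    KGr.grK P (n : ℤ) (x + y) = KGr.grK P (n : ℤ) x + KGr.grK P (n : ℤ) y := by
  obtain ⟨N, hN, hNx⟩ := hx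
  obtain ⟨M, hM, hMy⟩ := hy
  have h1 : ((N * M : ℕ) : K) * x ∈ gammaFil P.aug n := by
    rw [Nat.cast_mul, mul_comm (N : K), mul_assoc]; exact Ideal.mul_mem_left _ _ hNx
  have h2 : ((N * M : ℕ) : K) * y ∈ gammaFil P.aug n := by
    rw [Nat.cast_mul, mul_assoc]; exact Ideal.mul_mem_left _ _ hMy
  have hNM : 1 ≤ N * M := one_le_mul hN hM
  rw [grK_eq _ hNM h1, grK_eq _ hNM h2, grK_eq _ hNM (by rw [mul_add]; exact add_mem h1 h2),
    ← TensorProduct.tmul_add, ← gen_add]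
  congr 1
  exact gen_congr rfl (mul_add _ _ _) _ _

theorem grK_eq_zero {n : ℕ} {x : K} (hx : x ∈ (qG P).G (n + 1)) : KGr.grK P (n : ℤ) x = 0 := by
  obtain ⟨N, hN, hNx⟩ := hx
  rw [grK_eq N hN (gammaFil_anti _ (Nat.le_succ n) hNx), gen_eq_zero hNx, TensorProduct.tmul_zero]

theorem grK_zero (n : ℕ) : KGr.grK P (n : ℤ) (0 : K) = 0 := grK_eq_zero (Submodule.zero_mem _)

theorem grK_mul {n m : ℕ} {x y : K} (hx : x ∈ (qG P).G n) (hy : y ∈ (qG P).G m) :
    KGr.grK P (n : ℤ) x * KGr.grK P (m : ℤ) y = KGr.grK P ((n + m : ℕ) : ℤ) (x * y) := by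
  obtain ⟨N, hN, hNx⟩ := hx
  obtain ⟨M, hM, hMy⟩ := hy
  have h : ((N * M : ℕ) : K) * (x * y) ∈ gammaFil P.aug (n + m) := by
    have := gammaFil_mul_mem _ hNx hMy
    convert this using 1
    push_cast; ring
  rw [grK_eq N hN hNx, grK_eq M hM hMy, grK_eq (N * M) (one_le_mul hN hM) h,
    Algebra.TensorProduct.tmul_mul_tmul, gen_mul]
  congr 1
  · push_cast; ring
  · exact gen_congr rfl (by push_cast; ring) _ _

theorem grK_zero_one : KGr.grK P ((0 : ℕ) : ℤ) (1 : K) = 1 := by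
  rw [grK_eq 1 le_rfl (by rw [gammaFil_zero]; trivial), Algebra.TensorProduct.one_def]
  congr 1
  · simp
  · exact (gen_congr rfl (by simp) _ _).trans gen_zero_one

/-- `grK` as an additive map on the rational step -/
def grHom (P : PosStructure K) (n : ℕ) : (qG P).G n →+ KGr.Gr P :=
  AddMonoidHom.mk' (fun x => KGr.grK P (n : ℤ) x.1) fun a b => grK_add a.2 b.2

theorem grK_sum {ι : Type*} {n : ℕ} (s : Finset ι) (f : ι → K) (h : ∀ i ∈ s, f i ∈ (qG P).G n) :
    KGr.grK P (n : ℤ) (∑ i ∈ s, f i) = ∑ i ∈ s, KGr.grK P (n : ℤ) (f i) := by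
  classical
  induction s using Finset.induction_on with
  | empty => simpa using grK_zero n
  | insert a s ha ih =>
    rw [Finset.sum_insert ha, Finset.sum_insert ha,
      grK_add (h a (Finset.mem_insert_self a s)) (Submodule.sum_mem _ fun i hi => h i (Finset.mem_insert_of_mem hi)),
      ih fun i hi => h i (Finset.mem_insert_of_mem hi)]

theorem grK_congr {n : ℕ} {x y : K} (hy : y ∈ (qG P).G n) (h : x - y ∈ (qG P).G (n + 1)) :
    KGr.grK P (n : ℤ) x = KGr.grK P (n : ℤ) y := by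
  conv_lhs => rw [← add_sub_cancel y x, grK_add hy ((qG P).anti (Nat.le_succ n) h), grK_eq_zero h, add_zero]

theorem grK_intCast_mul {n : ℕ} {x : K} (c : ℤ) (hx : x ∈ (qG P).G n) :
    KGr.grK P (n : ℤ) ((c : K) * x) = (c : ℚ) • KGr.grK P (n : ℤ) x := by
  change KGr.grK P (n : ℤ) ((c : K) * x) = (c : ℚ) • grHom P n ⟨x, hx⟩
  rw [Int.cast_smul_eq_zsmul, ← map_zsmul]
  exact congrArg (KGr.grK P (n : ℤ)) (by simp [zsmul_eq_mul])

/-- degree `n` component on `ℚ ⊗ Gr` -/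
def compQ (P : PosStructure K) (n : ℕ) : KGr.Gr P →ₗ[ℚ] ℚ ⊗[ℤ] (K ⧸ (qG P).G (n + 1)) :=
  TensorProduct.AlgebraTensorModule.lTensor ℚ ℚ (comp P n).toIntLinearMap

theorem comp_gen {n m : ℕ} {x : K} (hx : x ∈ gammaFil P.aug m) :
    comp P n (gen m x hx) = if m = n then Ideal.Quotient.mk _ x else 0 := by
  change Ideal.Quotient.mk _ ((LaurentPolynomial.C x * LaurentPolynomial.T (-(m : ℤ))).coeff (-(n : ℤ))) = _
  rw [← LaurentPolynomial.single_eq_C_mul_T, AddMonoidAlgebra.coeff_single]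
  split_ifs with h
  · subst h; rw [Finsupp.single_eq_same]
  · rw [Finsupp.single_eq_of_ne (by omega), map_zero]

theorem compQ_grK_ne {n m : ℕ} (hnm : m ≠ n) {x : K} (hx : x ∈ (qG P).G m) :
    compQ P n (KGr.grK P (m : ℤ) x) = 0 := by
  obtain ⟨N, hN, hNx⟩ := hx
  rw [grK_eq N hN hNx]
  change _ ⊗ₜ[ℤ] comp P n (gen m _ hNx) = 0
  rw [comp_gen, if_neg hnm, TensorProduct.tmul_zero]

theorem compQ_grK {n : ℕ} {x : K} (hx : x ∈ (qG P).G n) :
    compQ P n (KGr.grK P (n : ℤ) x) = (1 : ℚ) ⊗ₜ[ℤ] Ideal.Quotient.mk _ x := by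
  obtain ⟨N, hN, hNx⟩ := hx
  rw [grK_eq N hN hNx]
  change ((1 : ℚ) / (N : ℚ)) ⊗ₜ[ℤ] comp P n (gen n _ hNx) = _
  rw [comp_gen, if_pos rfl, map_mul, map_natCast, ← nsmul_eq_mul, ← natCast_zsmul, ← TensorProduct.smul_tmul]
  congr 1
  rw [zsmul_eq_mul]
  push_cast
  field_simp

theorem mem_next_of_grK_eq_zero {n : ℕ} {x : K} (hx : x ∈ (qG P).G n) (h : KGr.grK P (n : ℤ) x = 0) :
    x ∈ (qG P).G (n + 1) := by
  have h1 := congrArg (compQ P n) h
  rw [compQ_grK hx, map_zero] at h1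
  obtain ⟨N, hN, hN0⟩ := tmul_eq_zero_exists h1
  rw [nsmul_eq_mul, ← map_natCast (Ideal.Quotient.mk ((qG P).G (n + 1))), ← map_mul,
    Ideal.Quotient.eq_zero_iff_mem] at hN0
  exact qG_saturated hN hN0

end

end Groth.Agent.Lead.ChernChar
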